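import Groth.Agent.SiteCohomology.AcyclicHomCd
import Groth.Agent.SiteCohomology.Free
import Groth.Agent.FlatCxBase.BoundedFlat
import Groth.Agent.Misc7.HDU.Sections
import Groth.Prelude.Def_CohSite

/-!
# Sections preserve quasi-isomorphisms between bounded below complexes of acyclic sheaves
-/

set_option autoImplicit false

universe u

open CategoryTheory CategoryTheory.Limits CategoryTheory.Abelian Opposite HomologicalComplex
open Groth.SiteCohomology Groth.SiteCohomology.AcyclicHomCd CochainComplex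

namespace Groth.CechHyper

variable {C : Type u} [SmallCategory C] {J : GrothendieckTopology C}

/-- In a bounded below exact complex of acyclic objects the cycles are acyclic. -/
theorem subsingleton_ext_cycles_bdd {A : Type*} [Category A] [Abelian A] [HasExt.{u} A] (P : A)
    (D : CochainComplex A ℤ) (hD : D.Acyclic) (a : ℤ) (ha : ∀ n, n < a → IsZero (D.X n))
    (h : ∀ (n : ℤ) (q : ℕ), Subsingleton (Ext P (D.X n) (q + 1))) :
    ∀ (m : ℕ) (n : ℤ), n < a + m → ∀ q : ℕ, Subsingleton (Ext P (kernel (D.d n (n + 1))) (q + 1))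
  | 0, n, hn, q => by
    have hz : IsZero (kernel (D.d n (n + 1))) := IsZero.of_mono (kernel.ι _) (ha n (by simpa using hn))
    refine subsingleton_of_forall_eq 0 fun e => ?_
    rw [← Ext.comp_mk₀_id e, hz.eq_of_src (𝟙 _) 0, Ext.mk₀_zero, Ext.comp_zero]
  | m + 1, n, hn, q => by
    obtain ⟨k, rfl⟩ : ∃ k, n = k + 1 := ⟨n - 1, by omega⟩
    obtain ⟨p, w, -, hS⟩ := exists_cyclesSES D hD k
    have : Subsingleton (Ext P (ShortComplex.mk _ p w).X₂ (q + 1)) := h k q
    have : Subsingleton (Ext P (ShortComplex.mk _ p w).X₁ (q + 1 + 1)) :=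
      subsingleton_ext_cycles_bdd P D hD a ha h m k (by omega) (q + 1)
    exact subsingleton_ext_right hS P (q + 1)

/-- The sections functor. -/
noncomputable abbrev secF (J : GrothendieckTopology C) (U : C) :
    Sheaf J AddCommGrpCat.{u} ⥤ AddCommGrpCat.{u} :=
  sheafToPresheaf J AddCommGrpCat.{u} ⋙ (evaluation Cᵒᵖ AddCommGrpCat.{u}).obj (op U)

instance (U : C) : (secF J U).Additive := by dsimp [secF]; infer_instance

/-- The sections of a bounded below exact complex of acyclic sheaves form an exact complex. -/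
theorem acyclic_sections (D : CochainComplex (Sheaf J AddCommGrpCat.{u}) ℤ) (hD : D.Acyclic) (a : ℤ)
    (ha : ∀ n, n < a → IsZero (D.X n)) (U : C)
    (h : ∀ (n : ℤ) (q : ℕ), Subsingleton (CohSite.HU (D.X n) (q + 1) U)) :
    (((secF J U).mapHomologicalComplex (ComplexShape.up ℤ)).obj D).Acyclic := by
  intro j
  obtain ⟨i, rfl⟩ : ∃ i, j = i + 1 := ⟨j - 1, by omega⟩
  rw [exactAt_iff' _ i (i + 1) (i + 1 + 1) (by simp) (by simp), ShortComplex.ab_exact_iff]
  intro (s : (D.X (i + 1)).obj.obj (op U)) hs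
  change (D.d (i + 1) (i + 1 + 1)).hom.app (op U) s = 0 at hs
  obtain ⟨p, w, hp, hS⟩ := exists_cyclesSES D hD i
  have h' : ∀ (n : ℤ) (q : ℕ), Subsingleton (Ext (CohCx.freeSheaf J U) (D.X n) (q + 1)) := h
  haveI : Subsingleton (Ext (CohCx.freeSheaf J U) (ShortComplex.mk _ p w).X₁ 1) :=
    subsingleton_ext_cycles_bdd _ D hD a ha h' (i - a + 1).toNat i (by omega) 0
  let c := CohFree.ofSect J U (D.X (i + 1)) s
  have hc : c ≫ D.d (i + 1) (i + 1 + 1) = 0 := by
    rw [ofSect_comp, hs]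
    exact ofSect_zero
  obtain ⟨e, he⟩ := exists_lift_of_subsingleton_ext_one hS (CohCx.freeSheaf J U) (kernel.lift _ c hc)
  have h1 : e ≫ D.d i (i + 1) = c := by
    have h2 := congrArg (fun t => t ≫ kernel.ι _) he
    simp only [kernel.lift_ι, Category.assoc, hp] at h2
    exact h2
  refine ⟨CohFree.evalGen J U (D.X i) e, ?_⟩
  change (D.d i (i + 1)).hom.app (op U) _ = s
  rw [← evalGen_comp, h1, CohFree.evalGen_ofSect]

/-- Ext groups into a mapping cone. -/
theorem subsingleton_ext_cone {A : Type*} [Category A] [Abelian A] [HasExt.{u} A]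
    {K L : CochainComplex A ℤ} (φ : K ⟶ L) (P : A) (n : ℤ) (m : ℕ)
    [Subsingleton (Ext P (K.X (n + 1)) m)] [Subsingleton (Ext P (L.X n) m)] :
    Subsingleton (Ext P ((mappingCone φ).X n) m) := by
  refine subsingleton_of_forall_eq 0 fun e => ?_
  rw [← Ext.comp_mk₀_id e, ← mappingCone.id_X φ n (n + 1) rfl, Ext.mk₀_add, Ext.comp_add,
    ← Ext.mk₀_comp_mk₀, ← Ext.mk₀_comp_mk₀, ← Ext.comp_assoc_of_third_deg_zero,
    ← Ext.comp_assoc_of_third_deg_zero]
  rw [Subsingleton.elim (e.comp (Ext.mk₀ ((mappingCone.fst φ).1.v n (n + 1) rfl)) (add_zero _)) 0,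
    Subsingleton.elim (e.comp (Ext.mk₀ ((mappingCone.snd φ).v n n (add_zero n))) (add_zero _)) 0,
    Ext.zero_comp, Ext.zero_comp, add_zero]

/-- Sections of a bounded below exact complex: the map induced by a quasi-isomorphism. -/
theorem quasiIso_sections {K L : CochainComplex (Sheaf J AddCommGrpCat.{u}) ℤ} (φ : K ⟶ L)
    [QuasiIso φ] (a : ℤ) (hKz : ∀ n, n < a → IsZero (K.X n)) (hLz : ∀ n, n < a → IsZero (L.X n)) (U : C)
    (hK : ∀ (n : ℤ) (q : ℕ), Subsingleton (CohSite.HU (K.X n) (q + 1) U))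
    (hL : ∀ (n : ℤ) (q : ℕ), Subsingleton (CohSite.HU (L.X n) (q + 1) U)) :
    QuasiIso (((secF J U).mapHomologicalComplex (ComplexShape.up ℤ)).map φ) := by
  rw [Groth.FlatCxBase.quasiIso_iff_cone_acyclic]
  have hC : (mappingCone φ).Acyclic := (Groth.FlatCxBase.quasiIso_iff_cone_acyclic φ).1 inferInstance
  have hCz : ∀ n, n < a - 1 → IsZero ((mappingCone φ).X n) := fun n hn => by
    rw [IsZero.iff_id_eq_zero, ← mappingCone.id_X φ n (n + 1) rfl,
      (hKz (n + 1) (by omega)).eq_of_tgt ((mappingCone.fst φ).1.v n (n + 1) rfl) 0,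
      (hLz n (by omega)).eq_of_tgt ((mappingCone.snd φ).v n n (add_zero n)) 0, zero_comp, zero_comp, add_zero]
  have hCh : ∀ (n : ℤ) (q : ℕ), Subsingleton (CohSite.HU ((mappingCone φ).X n) (q + 1) U) := fun n q => by
    have : Subsingleton (Ext (CohCx.freeSheaf J U) (K.X (n + 1)) (q + 1)) := hK (n + 1) q
    have : Subsingleton (Ext (CohCx.freeSheaf J U) (L.X n) (q + 1)) := hL n q
    exact subsingleton_ext_cone φ (CohCx.freeSheaf J U) n (q + 1)
  exact fun n => (acyclic_sections _ hC _ hCz U hCh n).of_iso (mappingCone.mapHomologicalComplexIso φ (secF J U))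

end Groth.CechHyper
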