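import Groth.Agent.CechHyper.Filtration
import Groth.Agent.CohBase.Cech
import Groth.Agent.CohBase.CechSheaf
import Groth.Agent.Misc7.HDU.Sections
import Mathlib.Topology.Sheaves.SheafCondition.UniqueGluing
import Mathlib.Algebra.Homology.ConcreteCategory

/-!
# The Čech rows of a complex of injective sheaves
-/

set_option autoImplicit false

universe u

open CategoryTheory CategoryTheory.Limits TopologicalSpace Opposite
open Groth.CohBase (Coch dCoch mapCoch inter res)

namespace Groth.CechHyper

section Hcl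

variable (K : CochainComplex AddCommGrpCat.{u} ℤ) (m : ℤ)

theorem exists_cyc (z : K.X m) (hz : K.d m (m + 1) z = 0) : ∃ c : K.cycles m, K.iCycles m c = z :=
  (ShortComplex.ab_exact_iff (ShortComplex.mk (K.iCycles m) (K.d m (m + 1)) (K.iCycles_d _ _))).1
    (ShortComplex.exact_of_f_is_kernel _ (K.cyclesIsKernel m (m + 1) (CochainComplex.next ℤ m))) z hz

/-- A cocycle as a cycle. -/
noncomputable def cyc (z : K.X m) (hz : K.d m (m + 1) z = 0) : K.cycles m := (exists_cyc K m z hz).choose

/-- The class of a cocycle. -/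
noncomputable def hcl (z : K.X m) (hz : K.d m (m + 1) z = 0) : K.homology m :=
  K.homologyπ m (cyc K m z hz)

theorem iCycles_cyc (z : K.X m) (hz : K.d m (m + 1) z = 0) : K.iCycles m (cyc K m z hz) = z :=
  (exists_cyc K m z hz).choose_spec

theorem iCycles_injective : Function.Injective (K.iCycles m) :=
  (AddCommGrpCat.mono_iff_injective _).1 inferInstance

theorem d_iCycles (c : K.cycles m) : K.d m (m + 1) (K.iCycles m c) = 0 :=
  ConcreteCategory.congr_hom (K.iCycles_d m (m + 1)) c

theorem exists_hcl (h : K.homology m) : ∃ z hz, hcl K m z hz = h := by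
  obtain ⟨c, rfl⟩ := (AddCommGrpCat.epi_iff_surjective (K.homologyπ m)).1 inferInstance h
  exact ⟨K.iCycles m c, d_iCycles K m c, congrArg (K.homologyπ m)
    (iCycles_injective K m (iCycles_cyc K m _ _))⟩

theorem hcl_eq_zero_iff (z : K.X m) (hz : K.d m (m + 1) z = 0) :
    hcl K m z hz = 0 ↔ ∃ w, K.d (m - 1) m w = z := by
  constructor
  · intro h
    obtain ⟨w, hw⟩ := (ShortComplex.ab_exact_iff (ShortComplex.mk (K.toCycles (m - 1) m) (K.homologyπ m)
      (K.toCycles_comp_homologyπ _ _))).1 (ShortComplex.exact_of_g_is_cokernel _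
        (K.homologyIsCokernel (m - 1) m (CochainComplex.prev ℤ m))) _ h
    refine ⟨w, ?_⟩
    exact (ConcreteCategory.congr_hom (K.toCycles_i (m - 1) m) w).symm.trans
      ((congrArg (K.iCycles m) hw).trans (iCycles_cyc K m z hz))
  · rintro ⟨w, rfl⟩
    have e : cyc K m (K.d (m - 1) m w) hz = K.toCycles (m - 1) m w :=
      iCycles_injective K m ((iCycles_cyc K m _ _).trans
        (ConcreteCategory.congr_hom (K.toCycles_i (m - 1) m) w).symm)
    exact (congrArg (K.homologyπ m) e).trans (ConcreteCategory.congr_hom (K.toCycles_comp_homologyπ _ _) w)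

theorem hcl_map {L : CochainComplex AddCommGrpCat.{u} ℤ} (φ : K ⟶ L) (z : K.X m)
    (hz : K.d m (m + 1) z = 0) (hz' : L.d m (m + 1) (φ.f m z) = 0) :
    HomologicalComplex.homologyMap φ m (hcl K m z hz) = hcl L m (φ.f m z) hz' := by
  refine (ConcreteCategory.congr_hom (HomologicalComplex.homologyπ_naturality φ m) (cyc K m z hz)).trans ?_
  refine congrArg (L.homologyπ m) (iCycles_injective L m ?_)
  exact (ConcreteCategory.congr_hom (HomologicalComplex.cyclesMap_i φ m) _).trans
    ((congrArg (φ.f m) (iCycles_cyc K m z hz)).trans (iCycles_cyc L m _ hz').symm)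

/-- Classes, additively. -/
noncomputable def hclHom : (K.d m (m + 1)).hom.ker →+ K.homology m :=
  AddMonoidHom.mk' (fun z => hcl K m z.1 z.2) fun a b => by
    refine Eq.trans (congrArg (K.homologyπ m) (iCycles_injective K m ?_)) (map_add (K.homologyπ m).hom _ _)
    exact (iCycles_cyc K m _ _).trans ((congrArg₂ (· + ·) (iCycles_cyc K m _ _).symm
      (iCycles_cyc K m _ _).symm).trans (map_add (K.iCycles m).hom _ _).symm)

theorem hcl_congr {z z' : K.X m} (e : z = z') (hz : K.d m (m + 1) z = 0) (hz' : K.d m (m + 1) z' = 0) :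
    hcl K m z hz = hcl K m z' hz' := by
  subst e; rfl

theorem hcl_sum {α : Type*} (t : Finset α) (c : α → ℤ) (z : α → K.X m) (hz : ∀ a, K.d m (m + 1) (z a) = 0)
    (h : K.d m (m + 1) (∑ a ∈ t, c a • z a) = 0) :
    hcl K m (∑ a ∈ t, c a • z a) h = ∑ a ∈ t, c a • hcl K m (z a) (hz a) := by
  let w : α → (K.d m (m + 1)).hom.ker := fun a => ⟨z a, hz a⟩
  have e : (∑ a ∈ t, c a • w a).1 = ∑ a ∈ t, c a • z a := by
    rw [AddSubmonoidClass.coe_finsetSum]
    rfl
  refine (hcl_congr K m e.symm h (∑ a ∈ t, c a • w a).2).trans ?_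
  refine (map_sum (hclHom K m) _ t).trans (Finset.sum_congr rfl fun a _ => ?_)
  exact map_zsmul (hclHom K m) (c a) (w a)

end Hcl

variable {X : TopCat.{u}} {ι : Type u} (U : ι → Opens X)
  (I : CochainComplex (Groth.CohBase.AbSheaf X) ℤ)

/-- The complex of sections. -/
noncomputable abbrev secCx (V : Opens X) : CochainComplex AddCommGrpCat.{u} ℤ :=
  (((evaluation (Opens X)ᵒᵖ AddCommGrpCat.{u}).obj (op V)).mapHomologicalComplex (ComplexShape.up ℤ)).obj
    (Groth.Misc7.HDU.preZ I)

/-- Restriction of sections. -/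
noncomputable def secRes {V W : Opens X} (h : V ≤ W) : secCx I W ⟶ secCx I V where
  f q := (I.X q).obj.map (homOfLE h).op
  comm' q r _ := (I.d q r).hom.naturality (homOfLE h).op

/-- The Čech row in degree `p`. -/
noncomputable def row (p : ℕ) : CochainComplex AddCommGrpCat.{u} ℤ where
  X q := AddCommGrpCat.of (Coch U (I.X q).obj p)
  d q r := AddCommGrpCat.ofHom (mapCoch (I.d q r).hom p)
  shape q r h := by
    ext s x
    show (I.d q r).hom.app _ (s x) = 0
    rw [I.shape q r h]
    rfl
  d_comp_d' q r t _ _ := by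
    ext s x
    exact ConcreteCategory.congr_hom (congrArg (fun f : I.X q ⟶ I.X t => f.hom.app (op (inter U x))) (I.d_comp_d q r t)) (s x)

/-- The horizontal differential. -/
noncomputable def rowD (p : ℕ) : row U I p ⟶ row U I (p + 1) where
  f q := AddCommGrpCat.ofHom (dCoch U (I.X q).obj p)
  comm' q r _ := by
    ext s
    exact Groth.CohBase.mapCoch_d (I.d q r).hom s

theorem rowD_rowD (p : ℕ) : rowD U I p ≫ rowD U I (p + 1) = 0 := by
  ext q s
  exact Groth.CohBase.dCoch_dCoch U (I.X q).obj s

theorem row_exact (hI : ∀ q, Injective (I.X q)) (p : ℕ) :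
    (ShortComplex.mk _ _ (rowD_rowD U I p)).Exact := by
  refine HomologicalComplex.exact_of_degreewise_exact _ fun q => ?_
  rw [ShortComplex.ab_exact_iff]
  intro s hs
  haveI := hI q
  exact Groth.CohBase.cechExact_of_injective (I.X q) U p s hs

/-- The augmentation. -/
noncomputable def rowAug : secCx I ⊤ ⟶ row U I 0 where
  f q := AddCommGrpCat.ofHom (AddMonoidHom.mk' (fun s x => res (I.X q).obj le_top s)
    fun a b => by funext x; exact map_add _ a b)
  comm' q r _ := by
    ext s
    funext x
    exact (Groth.CohBase.res_naturality (F := ((I.X q).obj : TopCat.Presheaf AddCommGrpCat.{u} X))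
      (G := ((I.X r).obj : TopCat.Presheaf AddCommGrpCat.{u} X)) (I.d q r).hom le_top s)

theorem rowAug_rowD : rowAug U I ≫ rowD U I 0 = 0 := by
  ext q s
  funext x
  show dCoch U (I.X q).obj 0 (fun x => res (I.X q).obj le_top s) x = 0
  rw [Groth.CohBase.dCoch_apply, Fin.sum_univ_two]
  simp only [Groth.CohBase.res_res]
  simp

theorem rowAug_kernel (hcov : iSup U = ⊤) :
    Mono (rowAug U I) ∧ (ShortComplex.mk _ _ (rowAug_rowD U I)).Exact := by
  have hinj : ∀ q, Function.Injective ((rowAug U I).f q) := fun q a b h => by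
    refine TopCat.Sheaf.eq_of_locally_eq' (I.X q) U ⊤ (fun i => homOfLE le_top) hcov.ge a b fun i => ?_
    have h' := congrArg (res (I.X q).obj (le_of_eq (Groth.CohBase.inter_one U (fun _ => i)).symm))
      (congrFun h (fun _ : Fin 1 => i))
    exact ((Groth.CohBase.res_res (I.X q).obj _ _ a).symm.trans h').trans (Groth.CohBase.res_res (I.X q).obj _ _ b)
  refine ⟨?_, HomologicalComplex.exact_of_degreewise_exact _ fun q => ?_⟩
  · have : ∀ q, Mono ((rowAug U I).f q) := fun q => (AddCommGrpCat.mono_iff_injective _).2 (hinj q)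
    exact HomologicalComplex.mono_of_mono_f _ this
  · rw [ShortComplex.ab_exact_iff]
    intro (s : Coch U (I.X q).obj 0) (hs : dCoch U (I.X q).obj 0 s = 0)
    let e : ∀ i, inter U (fun _ : Fin 1 => i) = U i := fun i => Groth.CohBase.inter_one U _
    let sf : ∀ i, (I.X q).obj.obj (op (U i)) := fun i => res (I.X q).obj (e i).ge (s fun _ => i)
    have hc : TopCat.Presheaf.IsCompatible (I.X q).obj U sf := by
      intro i j
      let x : Fin 2 → ι := ![i, j]
      have hle : U i ⊓ U j ≤ inter U x := le_iInf fun a => by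
        fin_cases a
        · exact inf_le_left
        · exact inf_le_right
      have h := congrArg (res (I.X q).obj hle) (congrFun hs x)
      rw [Groth.CohBase.dCoch_apply, Fin.sum_univ_two, map_add, map_zsmul, map_zsmul] at h
      simp only [Groth.CohBase.res_res, Fin.val_zero, pow_zero, one_zsmul, Fin.val_one, pow_one,
        neg_zsmul, Pi.zero_apply, map_zero] at h
      have hx0 : x ∘ Fin.succAbove (0 : Fin 2) = fun _ => j := by
        funext a; fin_cases a; rfl
      have hx1 : x ∘ Fin.succAbove (1 : Fin 2) = fun _ => i := by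
        funext a; fin_cases a; rfl
      have a0 := Groth.CohBase.Coch.congr_res U (I.X q).obj s hx0
        (hle.trans (Groth.CohBase.inter_comp U x _)) (inf_le_right.trans (e j).ge)
      have a1 := Groth.CohBase.Coch.congr_res U (I.X q).obj s hx1
        (hle.trans (Groth.CohBase.inter_comp U x _)) (inf_le_left.trans (e i).ge)
      rw [a0, a1, add_neg_eq_zero] at h
      exact ((Groth.CohBase.res_res (I.X q).obj inf_le_left (e i).ge _).trans h.symm).trans
        (Groth.CohBase.res_res (I.X q).obj inf_le_right (e j).ge _).symm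
    obtain ⟨t, ht, -⟩ := TopCat.Sheaf.existsUnique_gluing' (I.X q) U ⊤ (fun i => homOfLE le_top) hcov.ge sf hc
    refine ⟨t, funext fun x => ?_⟩
    have ht' : res (I.X q).obj le_top t = sf (x 0) := ht (x 0)
    have hx : x = fun _ => x 0 := funext fun a => congrArg x (Fin.fin_one_eq_zero a)
    show res (I.X q).obj (le_top : inter U x ≤ ⊤) t = s x
    rw [← Groth.CohBase.res_res (I.X q).obj (Groth.CohBase.inter_le U x 0) le_top, ht']
    exact ((Groth.CohBase.res_res (I.X q).obj _ _ _).trans
      (Groth.CohBase.Coch.congr_res U (I.X q).obj s hx.symm _ le_rfl)).trans (Groth.CohBase.res_self _ _)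

/-- Evaluation at a tuple. -/
noncomputable def rowEv {p : ℕ} (x : Fin (p + 1) → ι) : row U I p ⟶ secCx I (inter U x) where
  f q := AddCommGrpCat.ofHom (Pi.evalAddMonoidHom (fun y : Fin (p + 1) → ι => (I.X q).obj.obj (op (inter U y))) x)

/-- The presheaf of cohomology groups of sections. -/
noncomputable abbrev hPre (m : ℤ) : TopCat.Presheaf AddCommGrpCat.{u} X := (Groth.Misc7.HDU.preZ I).homology m

/-- Homology of sections as values of the homology presheaf. -/
noncomputable def secIso (m : ℤ) (V : Opens X) : (secCx I V).homology m ≅ (hPre I m).obj (op V) :=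
  ((Groth.Misc7.HDU.preZ I).sc m).mapHomologyIso ((evaluation (Opens X)ᵒᵖ AddCommGrpCat.{u}).obj (op V))

theorem secIso_res (m : ℤ) {V W : Opens X} (h : V ≤ W) (z : (secCx I W).homology m) :
    (secIso I m V).hom (HomologicalComplex.homologyMap (secRes I h) m z) =
      (hPre I m).map (homOfLE h).op ((secIso I m W).hom z) := by
  refine (((ConcreteCategory.congr_hom (NatTrans.app_homology
    ((evaluation (Opens X)ᵒᵖ AddCommGrpCat.{u}).map (homOfLE h).op) ((Groth.Misc7.HDU.preZ I).sc m))
    ((secIso I m W).hom z))).trans ?_).symm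
  refine congrArg (secIso I m V).hom ?_
  exact congrArg (HomologicalComplex.homologyMap (secRes I h) m)
    (ConcreteCategory.congr_hom (secIso I m W).hom_inv_id z)

/-- Cohomology of a row as cochains of the cohomology presheaf. -/
noncomputable def rowH (p : ℕ) (m : ℤ) : (row U I p).homology m →+ Coch U (hPre I m) p :=
  AddMonoidHom.mk' (fun z x => (secIso I m (inter U x)).hom (HomologicalComplex.homologyMap (rowEv U I x) m z))
    fun a b => by funext x; simp only [map_add]; rfl

theorem rowH_hcl (p : ℕ) (m : ℤ) (z : (row U I p).X m) (hz) (x : Fin (p + 1) → ι) :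
    rowH U I p m (hcl (row U I p) m z hz) x =
      (secIso I m (inter U x)).hom (hcl (secCx I (inter U x)) m (z x) (congrFun hz x)) :=
  congrArg (secIso I m (inter U x)).hom (hcl_map (row U I p) m (rowEv U I x) z hz (congrFun hz x))

theorem rowH_bijective (p : ℕ) (m : ℤ) : Function.Bijective (rowH U I p m) := by
  refine ⟨(injective_iff_map_eq_zero _).2 fun h h0 => ?_, fun t => ?_⟩
  · obtain ⟨z, hz, rfl⟩ := exists_hcl _ m h
    have hw : ∀ x, ∃ w, (secCx I (inter U x)).d (m - 1) m w = z x := fun x =>
      (hcl_eq_zero_iff (secCx I (inter U x)) m (z x) (congrFun hz x)).1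
        ((AddCommGrpCat.mono_iff_injective (secIso I m (inter U x)).hom).1 inferInstance
          (((rowH_hcl U I p m z hz x).symm.trans (congrFun h0 x)).trans (map_zero _).symm))
    choose w hw using hw
    exact (hcl_eq_zero_iff (row U I p) m z hz).2 ⟨w, funext hw⟩
  · have hs : ∀ x, ∃ z hz, (secIso I m (inter U x)).hom (hcl (secCx I (inter U x)) m z hz) = t x := fun x => by
      obtain ⟨z, hz, e⟩ := exists_hcl (secCx I (inter U x)) m ((secIso I m (inter U x)).inv (t x))
      exact ⟨z, hz, (congrArg _ e).trans (ConcreteCategory.congr_hom (secIso I m (inter U x)).inv_hom_id _)⟩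
    choose z hz e using hs
    exact ⟨hcl (row U I p) m z (funext hz), funext fun x => (rowH_hcl U I p m z (funext hz) x).trans (e x)⟩

theorem rowH_rowD (p : ℕ) (m : ℤ) (h : (row U I p).homology m) :
    rowH U I (p + 1) m (HomologicalComplex.homologyMap (rowD U I p) m h) =
      dCoch U (hPre I m) p (rowH U I p m h) := by
  obtain ⟨z, hz, rfl⟩ := exists_hcl _ m h
  have hz' : (row U I (p + 1)).d m (m + 1) ((rowD U I p).f m z) = 0 :=
    (ConcreteCategory.congr_hom ((rowD U I p).comm m (m + 1)) z).trans
      ((congrArg ((rowD U I p).f (m + 1)) hz).trans (map_zero _))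
  funext x
  rw [hcl_map (row U I p) m (rowD U I p) z hz hz']
  refine (rowH_hcl U I (p + 1) m _ hz' x).trans ?_
  let w : Fin (p + 2) → (secCx I (inter U x)).X m := fun a =>
    res (I.X m).obj (Groth.CohBase.inter_comp U x a.succAbove) (z (x ∘ a.succAbove))
  have hw : ∀ a, (secCx I (inter U x)).d m (m + 1) (w a) = 0 := fun a =>
    (Groth.CohBase.res_naturality (F := ((I.X m).obj : TopCat.Presheaf AddCommGrpCat.{u} X))
      (G := ((I.X (m + 1)).obj : TopCat.Presheaf AddCommGrpCat.{u} X)) (I.d m (m + 1)).hom _ _).trans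
      ((congrArg (res (I.X (m + 1)).obj (Groth.CohBase.inter_comp U x a.succAbove))
        (congrFun hz (x ∘ a.succAbove))).trans (map_zero _))
  have e : ((rowD U I p).f m z : Coch U (I.X m).obj (p + 1)) x =
      ∑ a : Fin (p + 2), ((-1 : ℤ) ^ (a : ℕ)) • w a := Groth.CohBase.dCoch_apply U (I.X m).obj z x
  have hs : (secCx I (inter U x)).d m (m + 1) (∑ a : Fin (p + 2), ((-1 : ℤ) ^ (a : ℕ)) • w a) = 0 :=
    (congrArg _ e).symm.trans (congrFun hz' x)
  refine (congrArg (secIso I m (inter U x)).hom ((hcl_congr _ m e (congrFun hz' x) hs).trans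
    (hcl_sum _ m Finset.univ _ w hw hs))).trans ?_
  rw [map_sum, Groth.CohBase.dCoch_apply]
  refine Finset.sum_congr rfl fun a _ => ?_
  rw [map_zsmul]
  refine congrArg _ ?_
  refine Eq.trans ?_ (congrArg (res (hPre I m) (Groth.CohBase.inter_comp U x a.succAbove))
    (rowH_hcl U I p m z hz (x ∘ a.succAbove))).symm
  refine Eq.trans ?_ (secIso_res I m (Groth.CohBase.inter_comp U x a.succAbove) _)
  exact congrArg (secIso I m (inter U x)).hom (hcl_map (secCx I (inter U (x ∘ a.succAbove))) m
    (secRes I (Groth.CohBase.inter_comp U x a.succAbove)) (z (x ∘ a.succAbove)) (congrFun hz _) (hw a)).symm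

end Groth.CechHyper
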