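import Mathlib.Algebra.Homology.HomologySequence
import Mathlib.Algebra.Homology.HomologicalComplexAbelian
import Mathlib.Algebra.Category.Grp.Abelian
import Mathlib.Algebra.Homology.ShortComplex.Ab
import Groth.Prelude.Def_HTor

/-!
# The filtration induced by a resolution by complexes of abelian groups
-/

set_option autoImplicit false

universe u

open CategoryTheory CategoryTheory.Limits

namespace Groth.CechHyper

variable (A : ℕ → CochainComplex AddCommGrpCat.{u} ℤ) (d : ∀ p, A p ⟶ A (p + 1))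
  (hd : ∀ p, d p ≫ d (p + 1) = 0)

/-- The kernels. -/
noncomputable abbrev Z (p : ℕ) : CochainComplex AddCommGrpCat.{u} ℤ := kernel (d p)

/-- The map onto the next kernel. -/
noncomputable abbrev toZ (p : ℕ) : A p ⟶ Z A d (p + 1) := kernel.lift _ (d p) (hd p)

/-- The short exact sequences `0 → Z p → A p → Z (p+1) → 0`. -/
noncomputable abbrev zSeq (p : ℕ) : ShortComplex (CochainComplex AddCommGrpCat.{u} ℤ) :=
  ShortComplex.mk (kernel.ι (d p)) (toZ A d hd p)
    (by rw [← cancel_mono (kernel.ι (d (p + 1))), Category.assoc, kernel.lift_ι, kernel.condition, zero_comp])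

theorem zSeq_shortExact (hex : ∀ p, (ShortComplex.mk _ _ (hd p)).Exact) (p : ℕ) :
    (zSeq A d hd p).ShortExact where
  exact := ShortComplex.exact_of_f_is_kernel _ (KernelFork.IsLimit.ofι' _ _ fun {W} k hk =>
    ⟨kernel.lift _ k (by
        rw [← kernel.lift_ι (d (p + 1)) (d p) (hd p)]
        exact (Category.assoc _ _ _).symm.trans ((congrArg (· ≫ kernel.ι (d (p + 1))) hk).trans zero_comp)),
      kernel.lift_ι _ _ _⟩)
  mono_f := inferInstanceAs (Mono (kernel.ι (d p)))
  epi_g := (hex p).epi_kernelLift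

variable (hex : ∀ p, (ShortComplex.mk _ _ (hd p)).Exact)

/-- Connecting maps. -/
noncomputable def δ (p : ℕ) (m : ℤ) : (Z A d (p + 1)).homology m ⟶ (Z A d p).homology (m + 1) :=
  (zSeq_shortExact A d hd hex p).δ m (m + 1) rfl

/-- The iterated connecting map into the total cohomology. -/
noncomputable def Phi (n : ℤ) : ∀ (p : ℕ) (m : ℤ), m + p = n →
    ((Z A d p).homology m →+ (Z A d 0).homology n)
  | 0, m, h => (eqToHom (congrArg (fun k => (Z A d 0).homology k) (by simpa using h) :
      (Z A d 0).homology m = (Z A d 0).homology n)).hom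
  | p + 1, m, h => (Phi n p (m + 1) (by omega)).comp (δ A d hd hex p m).hom

/-- The filtration. -/
noncomputable def fil (n : ℤ) (p : ℕ) : Submodule ℤ ((Z A d 0).homology n) :=
  AddSubgroup.toIntSubmodule (Phi A d hd hex n p (n - p) (by omega)).range

theorem mem_fil (n : ℤ) (p : ℕ) (m : ℤ) (h : m + p = n) (x : (Z A d 0).homology n) :
    x ∈ fil A d hd hex n p ↔ ∃ y, Phi A d hd hex n p m h y = x := by
  obtain rfl : m = n - p := by omega
  rfl

theorem fil_antitone (n : ℤ) : Antitone (fil A d hd hex n) := by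
  refine antitone_nat_of_succ_le fun p x hx => ?_
  obtain ⟨y, rfl⟩ := (mem_fil A d hd hex n (p + 1) (n - (p + 1 : ℕ)) (by omega) x).1 hx
  exact (mem_fil A d hd hex n p _ (by omega) _).2 ⟨_, rfl⟩

theorem fil_zero (n : ℤ) : fil A d hd hex n 0 = ⊤ := by
  refine eq_top_iff.2 fun x _ => (mem_fil A d hd hex n 0 n (by simp) x).2 ⟨x, ?_⟩
  rfl

theorem mem_fil_one_iff (n : ℤ) (x : (Z A d 0).homology n) :
    x ∈ fil A d hd hex n 1 ↔ HomologicalComplex.homologyMap (kernel.ι (d 0)) n x = 0 := by
  obtain ⟨m, rfl⟩ : ∃ m, n = m + 1 := ⟨n - 1, by omega⟩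
  have hS := (zSeq_shortExact A d hd hex 0).homology_exact₁ m (m + 1) rfl
  rw [ShortComplex.ab_exact_iff] at hS
  constructor
  · intro hx
    obtain ⟨y, rfl⟩ := (mem_fil A d hd hex (m + 1) 1 m (by simp) x).1 hx
    exact ConcreteCategory.congr_hom
      (((zSeq_shortExact A d hd hex 0).δ_comp m (m + 1) rfl)) y
  · intro hx
    obtain ⟨y, hy⟩ := hS x hx
    exact (mem_fil A d hd hex (m + 1) 1 m (by simp) x).2 ⟨y, hy⟩

theorem fil_eq_bot (n : ℤ) (p : ℕ) (h : IsZero ((A p).X (n - p))) : fil A d hd hex n p = ⊥ := by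
  refine eq_bot_iff.2 fun x hx => ?_
  obtain ⟨y, rfl⟩ := (mem_fil A d hd hex n p (n - p) (by omega) x).1 hx
  have hZ : IsZero ((Z A d p).X (n - p)) := IsZero.of_mono ((kernel.ι (d p)).f (n - p)) h
  have hH : IsZero ((Z A d p).homology (n - p)) :=
    ((Z A d p).exactAt_iff_isZero_homology _).1 (ShortComplex.exact_of_isZero_X₂ _ hZ)
  have := AddCommGrpCat.subsingleton_of_isZero hH
  rw [Subsingleton.elim y 0]
  exact map_zero _

theorem phi_mem_fil_succ (n : ℤ) (p : ℕ) (m : ℤ) (hm : m + p = n) (v : (Z A d p).homology m)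
    (hv : HomologicalComplex.homologyMap (kernel.ι (d p)) m v = 0) :
    Phi A d hd hex n p m hm v ∈ fil A d hd hex n (p + 1) := by
  obtain ⟨l, rfl⟩ : ∃ l, m = l + 1 := ⟨m - 1, by omega⟩
  obtain ⟨w, hw⟩ := (ShortComplex.ab_exact_iff _).1
    ((zSeq_shortExact A d hd hex p).homology_exact₁ l (l + 1) rfl) v hv
  exact (mem_fil A d hd hex n (p + 1) l (by omega) _).2 ⟨w, congrArg (Phi A d hd hex n p (l + 1) hm) hw⟩

/-- A surjection onto the graded piece together with a map whose kernel is not larger. -/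
theorem isSubquotient_of_surjective {H N T : Type u} [AddCommGroup H] [AddCommGroup N] [AddCommGroup T]
    (ψ : H →+ N) (hψ : Function.Surjective ψ) (f : H →+ T)
    (hf : ∀ h, f h = 0 → ψ h = 0) : HTor.IsSubquotient ℤ N T := by
  let fl := f.toIntLinearMap
  let ψl := ψ.toIntLinearMap
  let S' : Submodule ℤ T := LinearMap.range fl
  let S : Submodule ℤ T := (LinearMap.ker ψl).map fl
  let φ : H →ₗ[ℤ] ↥S' ⧸ Submodule.comap S'.subtype S := (Submodule.mkQ _).comp fl.rangeRestrict
  have hφ : Function.Surjective φ := (Submodule.mkQ_surjective _).comp fl.surjective_rangeRestrict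
  have hk : LinearMap.ker φ = LinearMap.ker ψl := by
    ext a
    refine (Submodule.Quotient.mk_eq_zero _).trans ⟨?_, fun ha => ⟨a, ha, rfl⟩⟩
    rintro ⟨b, hb, he⟩
    have h0 : ψ (a - b) = 0 := hf _ ((map_sub f a b).trans (sub_eq_zero.2 he.symm))
    rw [map_sub, show ψ b = 0 from hb, sub_zero] at h0
    exact h0
  exact ⟨S, S', LinearMap.map_le_range, ⟨(LinearMap.quotKerEquivOfSurjective ψl hψ).symm ≪≫ₗ
    (Submodule.quotEquivOfEq _ _ hk.symm ≪≫ₗ LinearMap.quotKerEquivOfSurjective φ hφ)⟩⟩

/-- Graded pieces are subquotients of the cohomology of the rows. -/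
theorem isSubquotient_grDesc (n : ℤ) (p : ℕ) {T : Type u} [AddCommGroup T]
    (π : (HomologicalComplex.homologyMap (d p) (n - p)).hom.ker →+ T)
    (hπ : ∀ z, π z = 0 → z.1 = 0 ∨ ∃ (k : ℕ) (hk : k + 1 = p) (y : (A k).homology (n - p)),
      HomologicalComplex.homologyMap (d k ≫ eqToHom (congrArg A hk)) (n - p) y = z.1) :
    HTor.IsSubquotient ℤ (HTor.grDesc (fil A d hd hex n) p) T := by
  let m := n - (p : ℤ)
  let hm : m + p = n := by simp [m]
  let e : (Z A d p).homology m →+ (HomologicalComplex.homologyMap (d p) m).hom.ker :=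
    (HomologicalComplex.homologyMap (kernel.ι (d p)) m).hom.codRestrict _ fun x => by
      rw [AddMonoidHom.mem_ker]
      refine (ConcreteCategory.congr_hom (HomologicalComplex.homologyMap_comp (kernel.ι (d p)) (d p) m).symm x).trans ?_
      rw [kernel.condition, HomologicalComplex.homologyMap_zero]
      rfl
  let ψ₀ : (Z A d p).homology m →+ fil A d hd hex n p :=
    (Phi A d hd hex n p m hm).codRestrict (fil A d hd hex n p).toAddSubgroup fun x => ⟨x, rfl⟩
  let ψ : (Z A d p).homology m →+ HTor.grDesc (fil A d hd hex n) p :=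
    (Submodule.mkQ _).toAddMonoidHom.comp ψ₀
  refine isSubquotient_of_surjective ψ (fun y => ?_) (π.comp e) fun x hx => ?_
  · obtain ⟨⟨y, hy⟩, rfl⟩ := Submodule.mkQ_surjective _ y
    obtain ⟨x, hx⟩ := (mem_fil A d hd hex n p m hm y).1 hy
    exact ⟨x, congrArg (Submodule.mkQ _) (Subtype.ext hx)⟩
  refine (Submodule.Quotient.mk_eq_zero _).2 ?_
  show Phi A d hd hex n p m hm x ∈ fil A d hd hex n (p + 1)
  have key := phi_mem_fil_succ A d hd hex n p m hm
  rcases hπ (e x) hx with h0 | ⟨k, hk, y, hy⟩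
  · exact key x h0
  · subst hk
    rw [eqToHom_refl, Category.comp_id] at hy
    have h1 : HomologicalComplex.homologyMap (kernel.ι (d (k + 1))) m
        (x - HomologicalComplex.homologyMap (toZ A d hd k) m y) = 0 := by
      rw [map_sub, sub_eq_zero]
      refine hy.symm.trans ?_
      exact (ConcreteCategory.congr_hom
        (congrArg (fun f => HomologicalComplex.homologyMap f m) (kernel.lift_ι _ _ (hd k)).symm) y).trans
        (ConcreteCategory.congr_hom (HomologicalComplex.homologyMap_comp _ _ m) y)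
    have h2 : Phi A d hd hex n (k + 1) m hm (HomologicalComplex.homologyMap (toZ A d hd k) m y) = 0 := by
      show Phi A d hd hex n k (m + 1) _ (δ A d hd hex k m (HomologicalComplex.homologyMap (toZ A d hd k) m y)) = 0
      have := ConcreteCategory.congr_hom ((zSeq_shortExact A d hd hex k).comp_δ m (m + 1) rfl) y
      exact (congrArg _ this).trans (map_zero _)
    have := key _ h1
    rw [map_sub, h2, sub_zero] at this
    exact this

end Groth.CechHyper
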