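import Groth.Agent.CechHyper.CechRows
import Groth.Agent.Misc7.HDU.Basic
import Groth.Prelude.Def_CohB1
import Mathlib.Algebra.Homology.Factorizations.CM5a
import Mathlib.CategoryTheory.Abelian.GrothendieckCategory.EnoughInjectives

/-!
# The filtration of hypercohomology by a Čech cover
-/

set_option autoImplicit false

universe u

open CategoryTheory CategoryTheory.Limits TopologicalSpace Opposite
open Groth.CohBase (Coch dCoch mapCoch inter res cochIso cechCx)

namespace Groth.CechHyper

section NatHom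

variable (K : CochainComplex AddCommGrpCat.{u} ℕ) (p : ℕ)

/-- Classes of cocycles, additively. -/
theorem exists_classHom : ∃ c : (K.d p (p + 1)).hom.ker →+ K.homology p,
    ∀ z, c z = 0 → (p = 0 ∧ z.1 = 0) ∨ ∃ (k : ℕ) (_ : k + 1 = p) (w : K.X k), K.d k p w = z.1 := by
  have hex : (ShortComplex.mk (K.iCycles p) (K.d p (p + 1)) (K.iCycles_d _ _)).Exact :=
    ShortComplex.exact_of_f_is_kernel _ (K.cyclesIsKernel p (p + 1) (CochainComplex.next ℕ p))
  have hi : Function.Injective (K.iCycles p) := (AddCommGrpCat.mono_iff_injective _).1 inferInstance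
  choose cy hcy using fun z : (K.d p (p + 1)).hom.ker =>
    (ShortComplex.ab_exact_iff _).1 hex z.1 z.2
  refine ⟨AddMonoidHom.mk' (fun z => K.homologyπ p (cy z)) fun a b => ?_, fun z hz => ?_⟩
  · refine Eq.trans (congrArg (K.homologyπ p) (hi ?_)) (map_add (K.homologyπ p).hom _ _)
    exact (hcy _).trans ((congrArg₂ (· + ·) (hcy a).symm (hcy b).symm).trans
      (map_add (K.iCycles p).hom _ _).symm)
  · cases p with
    | zero =>
      refine Or.inl ⟨rfl, ?_⟩
      haveI : IsIso (K.homologyπ 0) := K.isIso_homologyπ 0 0 (by simp) (K.shape 0 0 (by simp))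
      have h0 : cy z = 0 :=
        (ConcreteCategory.bijective_of_isIso (K.homologyπ 0)).1 (hz.trans (map_zero _).symm)
      exact (hcy z).symm.trans ((congrArg (K.iCycles 0) h0).trans (map_zero _))
    | succ k =>
      obtain ⟨w, hw⟩ := (ShortComplex.ab_exact_iff (ShortComplex.mk (K.toCycles k (k + 1))
        (K.homologyπ (k + 1)) (K.toCycles_comp_homologyπ _ _))).1 (ShortComplex.exact_of_g_is_cokernel _
          (K.homologyIsCokernel k (k + 1) (CochainComplex.prev_nat_succ k))) (cy z) hz
      exact Or.inr ⟨k, rfl, w, (ConcreteCategory.congr_hom (K.toCycles_i k (k + 1)) w).symm.trans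
        ((congrArg (K.iCycles (k + 1)) hw).trans (hcy z))⟩

end NatHom

variable {X : TopCat.{u}} {ι : Type u} (U : ι → Opens X)

theorem mapCoch_injective {F G : TopCat.Presheaf AddCommGrpCat.{u} X} (φ : F ≅ G) (p : ℕ) :
    Function.Injective (mapCoch (U := U) φ.hom p) := fun _ _ h =>
  funext fun x => (ConcreteCategory.bijective_of_isIso (φ.app (op (inter U x))).hom).1 (congrFun h x)

theorem mapCoch_surjective {F G : TopCat.Presheaf AddCommGrpCat.{u} X} (φ : F ≅ G) (p : ℕ) :
    Function.Surjective (mapCoch (U := U) φ.hom p) := fun t =>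
  ⟨fun x => φ.inv.app (op (inter U x)) (t x),
    funext fun x => ConcreteCategory.congr_hom (φ.app (op (inter U x))).inv_hom_id (t x)⟩

variable (I : CochainComplex (Groth.CohBase.AbSheaf X) ℤ)

theorem isSubquotient_cechHTop (hI : ∀ q, Injective (I.X q)) (n : ℤ) (p : ℕ)
    (G : TopCat.Presheaf AddCommGrpCat.{u} X) (φ : hPre I (n - p) ≅ G) :
    HTor.IsSubquotient ℤ (HTor.grDesc (fil (row U I) (rowD U I) (rowD_rowD U I) (row_exact U I hI) n) p)
      (CohB1.cechHTop U G p) := by
  let m : ℤ := n - p
  let θ : ∀ k, (row U I k).homology m →+ (cechCx U G).X k := fun k =>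
    (cochIso U G k).inv.hom.comp ((mapCoch φ.hom k).comp (rowH U I k m))
  have θinj : ∀ k, Function.Injective (θ k) := fun k =>
    ((ConcreteCategory.bijective_of_isIso (cochIso U G k).inv).1.comp (mapCoch_injective U φ k)).comp
      (rowH_bijective U I k m).1
  have θsurj : ∀ k, Function.Surjective (θ k) := fun k =>
    ((ConcreteCategory.bijective_of_isIso (cochIso U G k).inv).2.comp (mapCoch_surjective U φ k)).comp
      (rowH_bijective U I k m).2
  have θd : ∀ k h, (cechCx U G).d k (k + 1) (θ k h) =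
      θ (k + 1) (HomologicalComplex.homologyMap (rowD U I k) m h) := fun k h => by
    apply Groth.CohBase.cochIso_injective U G (k + 1)
    refine (Groth.CohBase.cochIso_d U G k _).trans ?_
    refine (congrArg (dCoch U G k) (ConcreteCategory.congr_hom (cochIso U G k).inv_hom_id _)).trans ?_
    refine Eq.trans ?_ (ConcreteCategory.congr_hom (cochIso U G (k + 1)).inv_hom_id _).symm
    refine (Groth.CohBase.mapCoch_d φ.hom (rowH U I k m h)).symm.trans ?_
    exact congrArg (mapCoch φ.hom (k + 1)) (rowH_rowD U I k m h).symm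
  obtain ⟨c, hc⟩ := exists_classHom (cechCx U G) p
  let θ' : (HomologicalComplex.homologyMap (rowD U I p) m).hom.ker →+ ((cechCx U G).d p (p + 1)).hom.ker :=
    ((θ p).comp (AddSubgroup.subtype _)).codRestrict _ fun z =>
      (θd p z.1).trans ((congrArg (θ (p + 1)) z.2).trans (map_zero _))
  refine isSubquotient_grDesc (row U I) (rowD U I) (rowD_rowD U I) (row_exact U I hI) n p
    (c.comp θ') fun z hz => ?_
  rcases hc (θ' z) hz with ⟨-, h0⟩ | ⟨k, hk, w, hw⟩
  · exact Or.inl (θinj p (h0.trans (map_zero _).symm))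
  · refine Or.inr ⟨k, hk, ?_⟩
    subst hk
    obtain ⟨y, rfl⟩ := θsurj k w
    refine ⟨y, ?_⟩
    rw [eqToHom_refl, Category.comp_id]
    exact θinj (k + 1) ((θd k y).symm.trans hw)

/-- The comparison of `secCx I ⊤` with the first kernel. -/
theorem exists_topIso (hcov : iSup U = ⊤) : ∃ e : secCx I ⊤ ≅ Z (row U I) (rowD U I) 0,
    e.hom ≫ kernel.ι (rowD U I 0) = rowAug U I := by
  obtain ⟨hm, hex⟩ := rowAug_kernel U I hcov
  haveI : Mono (ShortComplex.mk _ _ (rowAug_rowD U I)).f := hm
  have hk := limit.isLimit (parallelPair (rowD U I 0) 0)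
  exact ⟨IsLimit.conePointUniqueUpToIso hex.fIsKernel hk,
    IsLimit.conePointUniqueUpToIso_hom_comp hex.fIsKernel hk WalkingParallelPair.zero⟩

theorem rowAug_rowEv (x : Fin 1 → ι) :
    rowAug U I ≫ rowEv U I x = secRes I (le_top : inter U x ≤ ⊤) := by
  ext q s
  rfl

theorem homologyMap_rowAug_eq_zero_iff (n : ℤ) (G : TopCat.Presheaf AddCommGrpCat.{u} X)
    (φ : hPre I n ≅ G) (h : (secCx I ⊤).homology n) :
    HomologicalComplex.homologyMap (rowAug U I) n h = 0 ↔
      ∀ i, G.map (homOfLE le_top : U i ⟶ (⊤ : Opens X)).op (φ.hom.app (op ⊤) ((secIso I n ⊤).hom h)) = 0 := by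
  let g : G.obj (op ⊤) := φ.hom.app (op ⊤) ((secIso I n ⊤).hom h)
  have key : ∀ x : Fin 1 → ι, φ.hom.app (op (inter U x))
      (rowH U I 0 n (HomologicalComplex.homologyMap (rowAug U I) n h) x) =
      res G (le_top : inter U x ≤ ⊤) g := fun x => by
    refine Eq.trans (congrArg (φ.hom.app (op (inter U x))) ?_)
      (Groth.CohBase.res_naturality (F := hPre I n) (G := G) φ.hom (le_top : inter U x ≤ ⊤) ((secIso I n ⊤).hom h))
    refine Eq.trans (congrArg (secIso I n (inter U x)).hom ?_) (secIso_res I n le_top h)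
    refine (ConcreteCategory.congr_hom (HomologicalComplex.homologyMap_comp _ _ n) h).symm.trans ?_
    rw [rowAug_rowEv]
  constructor
  · intro e i
    have := (key fun _ => i).symm.trans ((congrArg (fun t => φ.hom.app _ (t (fun _ : Fin 1 => i)))
      ((congrArg (rowH U I 0 n) e).trans (map_zero _))).trans (map_zero _))
    have e' := congrArg (res G (Groth.CohBase.inter_one U (fun _ : Fin 1 => i)).ge) this
    exact (Groth.CohBase.res_res G _ _ g).symm.trans (e'.trans (map_zero _))
  · intro e
    refine (rowH_bijective U I 0 n).1 (Eq.trans ?_ (map_zero _).symm)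
    funext x
    refine (ConcreteCategory.bijective_of_isIso (φ.app (op (inter U x))).hom).1 ?_
    refine (key x).trans (Eq.trans ?_ (map_zero _).symm)
    rw [← Groth.CohBase.res_res G (Groth.CohBase.inter_le U x 0) le_top]
    exact (congrArg (res G _) (e (x 0))).trans (map_zero _)

end Groth.CechHyper
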