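import Groth.Agent.CechHyper.AcyclicSections
import Groth.Agent.CechHyper.HyperFiltration
import Groth.Agent.CohBase.CechDerived
import Groth.Agent.TotQIso.Basic
import Groth.Prelude.Def_CechTot
import Mathlib.Algebra.Homology.TotalComplexSymmetry
import Mathlib.Algebra.Homology.Embedding.Extend

/-!
# The total Čech complex of a bounded below complex of sheaves acyclic on the intersections
-/

set_option autoImplicit false
set_option backward.isDefEq.respectTransparency false
set_option backward.isDefEq.respectTransparency.types false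

universe u

open CategoryTheory CategoryTheory.Limits TopologicalSpace Opposite HomologicalComplex
open Groth.CohBase (Coch dCoch mapCoch inter cechCx cochIso)

namespace Groth.CechHyper

local notation "up" => ComplexShape.up ℤ

variable {X : TopCat.{u}} {ι : Type u} (U : ι → Opens X)

/-- The functor `F ↦ C^•(U, F)`, the Čech complex extended to `ℤ`. -/
noncomputable abbrev cechExt : TopCat.Presheaf AddCommGrpCat.{u} X ⥤ CochainComplex AddCommGrpCat.{u} ℤ :=
  cechComplexFunctor (A := AddCommGrpCat.{u}) U ⋙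
    ComplexShape.embeddingUpNat.extendFunctor AddCommGrpCat.{u}

instance : (cechExt U).PreservesZeroMorphisms :=
  @Functor.preservesZeroMorphisms_comp _ _ _ _ _ _ _ _ _ _ _
    (CechTot.preservesZeroMorphisms_cechComplexFunctor U) inferInstance

/-- The Čech cochains functor in degree `p`. -/
noncomputable abbrev cechAt (p : ℤ) : CohTop.Ab X ⥤ AddCommGrpCat.{u} :=
  sheafToPresheaf (Opens.grothendieckTopology X) AddCommGrpCat.{u} ⋙ cechExt U ⋙
    HomologicalComplex.eval AddCommGrpCat.{u} up p

/-- Terms of the extended Čech complex. -/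
noncomputable def eN (F : TopCat.Presheaf AddCommGrpCat.{u} X) (n : ℕ) :
    ((cechExt U).obj F).X (n : ℤ) ≅ AddCommGrpCat.of (Coch U F n) :=
  (cechCx U F).extendXIso ComplexShape.embeddingUpNat rfl ≪≫ cochIso U F n

theorem isZero_ext_neg (F : TopCat.Presheaf AddCommGrpCat.{u} X) (p : ℤ) (hp : p < 0) :
    IsZero (((cechExt U).obj F).X p) :=
  (cechCx U F).isZero_extend_X _ _ fun i h => by
    simp only [ComplexShape.embeddingUpNat_f] at h
    omega

theorem eN_d (F : TopCat.Presheaf AddCommGrpCat.{u} X) (n : ℕ) (m : ℤ) (hm : ((n + 1 : ℕ) : ℤ) = m)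
    (s : ((cechExt U).obj F).X (n : ℤ)) :
    (eN U F (n + 1)).hom (((cechExt U).obj F).d (n : ℤ) ((n + 1 : ℕ) : ℤ) s) =
      dCoch U F n ((eN U F n).hom s) := by
  change (cochIso U F (n + 1)).hom ((((cechCx U F).extend ComplexShape.embeddingUpNat).d _ _ ≫
    ((cechCx U F).extendXIso ComplexShape.embeddingUpNat (i := n + 1) rfl).hom) s) = _
  erw [HomologicalComplex.extend_d_eq _ ComplexShape.embeddingUpNat (i := n) (j := n + 1) rfl rfl]
  simp only [Category.assoc, Iso.inv_hom_id, Category.comp_id, ConcreteCategory.comp_apply]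
  exact Groth.CohBase.cochIso_d U F n _

theorem eN_map {F G : TopCat.Presheaf AddCommGrpCat.{u} X} (φ : F ⟶ G) (n : ℕ)
    (s : ((cechExt U).obj F).X (n : ℤ)) :
    (eN U G n).hom (((cechExt U).map φ).f (n : ℤ) s) = mapCoch φ n ((eN U F n).hom s) := by
  change (cochIso U G n).hom (((HomologicalComplex.extendMap ((cechComplexFunctor U).map φ)
    ComplexShape.embeddingUpNat).f (n : ℤ) ≫ ((cechCx U G).extendXIso _ rfl).hom) s) = _
  erw [HomologicalComplex.extendMap_f _ ComplexShape.embeddingUpNat (i := n) rfl]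
  simp only [Category.assoc, Iso.inv_hom_id, Category.comp_id, ConcreteCategory.comp_apply]
  exact Groth.CohBase.cochIso_naturality U φ n _

theorem eN_injective (F : TopCat.Presheaf AddCommGrpCat.{u} X) (n : ℕ) :
    Function.Injective (eN U F n).hom :=
  (ConcreteCategory.bijective_of_isIso (eN U F n).hom).1

theorem eN_surjective (F : TopCat.Presheaf AddCommGrpCat.{u} X) (n : ℕ) :
    Function.Surjective (eN U F n).hom :=
  (ConcreteCategory.bijective_of_isIso (eN U F n).hom).2

instance cechAt_additive (p : ℤ) : (cechAt U p).Additive where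
  map_add {F G φ ψ} := by
    rcases lt_or_ge p 0 with hp | hp
    · exact (isZero_ext_neg U _ p hp).eq_of_src _ _
    · obtain ⟨n, rfl⟩ := Int.eq_ofNat_of_zero_le hp
      ext s
      refine eN_injective U G.obj n ?_
      change (eN U G.obj n).hom (((cechExt U).map (φ + ψ).hom).f (n : ℤ) s) =
        (eN U G.obj n).hom (((cechExt U).map φ.hom).f (n : ℤ) s + ((cechExt U).map ψ.hom).f (n : ℤ) s)
      rw [map_add, eN_map, eN_map, eN_map]
      rfl

/-- Čech cochains of a bounded below exact complex of acyclic sheaves form an exact complex. -/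
theorem acyclic_cechAt (D : CochainComplex (CohTop.Ab X) ℤ) (hD : D.Acyclic) (a : ℤ)
    (ha : ∀ n, n < a → IsZero (D.X n))
    (h : ∀ (n : ℕ) (x : Fin (n + 1) → ι) (j : ℤ) (q : ℕ), Subsingleton (CohTop.HU (D.X j) (q + 1) (inter U x)))
    (p : ℤ) : (((cechAt U p).mapHomologicalComplex up).obj D).Acyclic := by
  intro j
  rcases lt_or_ge p 0 with hp | hp
  · exact HomologicalComplex.ExactAt.of_isZero (isZero_ext_neg U _ p hp)
  obtain ⟨n, rfl⟩ := Int.eq_ofNat_of_zero_le hp
  obtain ⟨i, rfl⟩ : ∃ i, j = i + 1 := ⟨j - 1, by omega⟩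
  rw [exactAt_iff' _ i (i + 1) (i + 1 + 1) (by simp) (by simp), ShortComplex.ab_exact_iff]
  intro s hs
  have h0 : mapCoch (D.d (i + 1) (i + 1 + 1)).hom n ((eN U (D.X (i + 1)).obj n).hom s) = 0 :=
    (eN_map U _ n s).symm.trans ((congrArg _ hs).trans (map_zero _))
  have hx : ∀ x, ∃ t, (D.d i (i + 1)).hom.app (op (inter U x)) t = (eN U (D.X (i + 1)).obj n).hom s x := by
    intro x
    have hac := acyclic_sections D hD a ha (inter U x) (h n x) (i + 1)
    rw [exactAt_iff' _ i (i + 1) (i + 1 + 1) (by simp) (by simp), ShortComplex.ab_exact_iff] at hac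
    exact hac _ (congrFun h0 x)
  choose t ht using hx
  obtain ⟨t', ht'⟩ := eN_surjective U (D.X i).obj n t
  refine ⟨t', eN_injective U (D.X (i + 1)).obj n ((eN_map U _ n t').trans ?_)⟩
  rw [ht']
  funext x
  exact ht x

/-- The Čech double complex of a complex of sheaves. -/
noncomputable abbrev dbl (K : CochainComplex (CohTop.Ab X) ℤ) : HomologicalComplex₂ AddCommGrpCat.{u} up up :=
  CechTot.cech₂ U ((CechTot.presheafCx X).obj K)

/-- Its functoriality. -/
noncomputable abbrev dblMap {K L : CochainComplex (CohTop.Ab X) ℤ} (φ : K ⟶ L) : dbl U K ⟶ dbl U L :=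
  ((cechExt U).mapHomologicalComplex up).map ((CechTot.presheafCx X).map φ)

theorem dbl_bdd (K : CochainComplex (CohTop.Ab X) ℤ) (a : ℤ) (ha : ∀ n, n < a → IsZero (K.X n)) :
    Groth.TotQIso.Bdd (dbl U K) a 0 := by
  intro p q h
  rcases h with h | h
  · exact (cechAt U q).map_isZero (ha p h)
  · exact isZero_ext_neg U _ q h

/-- A quasi-isomorphism of complexes acyclic on the intersections gives one of total Čech complexes. -/
theorem quasiIso_tot_map {K L : CochainComplex (CohTop.Ab X) ℤ} (φ : K ⟶ L) [QuasiIso φ] (a : ℤ)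
    (hK : ∀ n, n < a → IsZero (K.X n)) (hL : ∀ n, n < a → IsZero (L.X n))
    (hKh : ∀ (n : ℕ) (x : Fin (n + 1) → ι) (j : ℤ) (q : ℕ), Subsingleton (CohTop.HU (K.X j) (q + 1) (inter U x)))
    (hLh : ∀ (n : ℕ) (x : Fin (n + 1) → ι) (j : ℤ) (q : ℕ), Subsingleton (CohTop.HU (L.X j) (q + 1) (inter U x))) :
    QuasiIso (HomologicalComplex₂.total.map (dblMap U φ) up) := by
  refine Groth.TotQIso.quasiIso_total_map (a := a) _ 0 (dbl_bdd U K a hK) (dbl_bdd U L a hL) fun p => ?_
  change QuasiIso (((cechAt U p).mapHomologicalComplex up).map φ)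
  rw [Groth.FlatCxBase.quasiIso_iff_cone_acyclic]
  have hC : (CochainComplex.mappingCone φ).Acyclic :=
    (Groth.FlatCxBase.quasiIso_iff_cone_acyclic φ).1 inferInstance
  have hCz : ∀ n, n < a - 1 → IsZero ((CochainComplex.mappingCone φ).X n) := fun n hn => by
    rw [IsZero.iff_id_eq_zero, ← CochainComplex.mappingCone.id_X φ n (n + 1) rfl,
      (hK (n + 1) (by omega)).eq_of_tgt ((CochainComplex.mappingCone.fst φ).1.v n (n + 1) rfl) 0,
      (hL n (by omega)).eq_of_tgt ((CochainComplex.mappingCone.snd φ).v n n (add_zero n)) 0, zero_comp, zero_comp,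
      add_zero]
  have hCh : ∀ (n : ℕ) (x : Fin (n + 1) → ι) (j : ℤ) (q : ℕ),
      Subsingleton (CohTop.HU ((CochainComplex.mappingCone φ).X j) (q + 1) (inter U x)) := fun n x j q => by
    change Subsingleton (Abelian.Ext (CohCx.freeSheaf (Opens.grothendieckTopology X) (inter U x))
      ((CochainComplex.mappingCone φ).X j) (q + 1))
    have : Subsingleton (Abelian.Ext (CohCx.freeSheaf (Opens.grothendieckTopology X) (inter U x))
      (K.X (j + 1)) (q + 1)) := hKh n x (j + 1) q
    have : Subsingleton (Abelian.Ext (CohCx.freeSheaf (Opens.grothendieckTopology X) (inter U x))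
      (L.X j) (q + 1)) := hLh n x j q
    exact subsingleton_ext_cone φ _ j (q + 1)
  exact fun j => (acyclic_cechAt U _ hC _ hCz hCh p j).of_iso
    (CochainComplex.mappingCone.mapHomologicalComplexIso φ (cechAt U p))

/-! ### Injective sheaves: the sections compute -/

variable (I : CochainComplex (CohTop.Ab X) ℤ)

/-- The global sections as a one-row double complex. -/
noncomputable abbrev secRow : HomologicalComplex₂ AddCommGrpCat.{u} up up :=
  ((HomologicalComplex.single AddCommGrpCat.{u} up 0).mapHomologicalComplex up).obj (secCx I ⊤)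

/-- The augmentation in one degree. -/
noncomputable def augF (q : ℤ) :
    (I.X q).obj.obj (op ⊤) ⟶ ((cechExt U).obj (I.X q).obj).X ((0 : ℕ) : ℤ) :=
  (rowAug U I).f q ≫ (eN U (I.X q).obj 0).inv

theorem eN_augF (q : ℤ) (s : (I.X q).obj.obj (op ⊤)) :
    (eN U (I.X q).obj 0).hom (augF U I q s) = (rowAug U I).f q s :=
  congr(($((eN U (I.X q).obj 0).inv_hom_id)) _)

theorem augF_d (q : ℤ) (k : ℤ) (hk : (up).Rel 0 k) :
    augF U I q ≫ ((cechExt U).obj (I.X q).obj).d 0 k = 0 := by
  obtain rfl : k = ((0 + 1 : ℕ) : ℤ) := by simpa using hk.symm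
  ext s
  refine eN_injective U (I.X q).obj 1 ?_
  refine (eN_d U (I.X q).obj 0 _ rfl (augF U I q s)).trans ?_
  rw [eN_augF]
  exact (congr(($(rowAug_rowD U I)).f q s)).trans (map_zero (eN U (I.X q).obj 1).hom.hom).symm

/-- The augmentation of the Čech double complex. -/
noncomputable def dblAug : secRow I ⟶ dbl U I where
  f q := HomologicalComplex.mkHomFromSingle (augF U I q) (augF_d U I q)
  comm' q r _ := by
    apply HomologicalComplex.from_single_hom_ext
    simp only [HomologicalComplex.comp_f, HomologicalComplex.mkHomFromSingle_f, Category.assoc]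
    erw [HomologicalComplex.single_map_f_self]
    simp only [Category.assoc, Iso.inv_hom_id_assoc]
    congr 1
    ext s
    refine eN_injective U (I.X r).obj 0 ?_
    refine (eN_map U (I.d q r).hom 0 (augF U I q s)).trans ?_
    refine Eq.trans ?_ (eN_augF U I r _).symm
    rw [eN_augF]
    exact congr(($((rowAug U I).comm q r)) s)

theorem quasiIso_dblAug_f (hI : ∀ q, Injective (I.X q)) (hcov : iSup U = ⊤) (q : ℤ) :
    QuasiIso ((dblAug U I).f q) := by
  rw [quasiIso_iff]
  intro j
  have hz : ∀ k : ℤ, k ≠ 0 → IsZero (((secRow I).X q).X k) := fun k hk =>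
    HomologicalComplex.isZero_single_obj_X up 0 _ k hk
  rcases lt_trichotomy j 0 with hj | rfl | hj
  · rw [quasiIsoAt_iff_exactAt _ _ (HomologicalComplex.ExactAt.of_isZero (hz j hj.ne))]
    exact HomologicalComplex.ExactAt.of_isZero (isZero_ext_neg U _ j hj)
  · rw [quasiIsoAt_iff' _ (-1) 0 ((0 + 1 : ℕ) : ℤ) (by simp) (by simp),
      ShortComplex.quasiIso_iff_of_zeros _ ((hz (-1) (by norm_num)).eq_of_src _ _) ((hz ((0 + 1 : ℕ) : ℤ) (by norm_num)).eq_of_tgt _ _)
        ((isZero_ext_neg U _ (-1) (by omega)).eq_of_src _ _)]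
    obtain ⟨hmono, hexact⟩ := rowAug_kernel U I hcov
    have hb : Function.Bijective (HomologicalComplex.singleObjXSelf up (0 : ℤ) ((I.X q).obj.obj (op ⊤))).hom :=
      ConcreteCategory.bijective_of_isIso _
    have key : ∀ t, (eN U (I.X q).obj 0).hom (((dblAug U I).f q).f 0 t) =
        (rowAug U I).f q ((HomologicalComplex.singleObjXSelf up (0 : ℤ) ((I.X q).obj.obj (op ⊤))).hom t) := by
      intro t
      refine Eq.trans ?_ (eN_augF U I q _)
      simp only [dblAug, HomologicalComplex.mkHomFromSingle_f]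
      rfl
    refine ⟨(ShortComplex.ab_exact_iff _).2 fun s hs => ?_, (AddCommGrpCat.mono_iff_injective _).2 fun t t' e => ?_⟩
    · have h0 : dCoch U (I.X q).obj 0 ((eN U (I.X q).obj 0).hom s) = 0 :=
        (eN_d U (I.X q).obj 0 _ rfl s).symm.trans ((congrArg _ hs).trans (map_zero _))
      obtain ⟨t, ht⟩ := (ShortComplex.ab_exact_iff _).1
        (hexact.map (HomologicalComplex.eval AddCommGrpCat.{u} up q)) _ h0
      obtain ⟨t', rfl⟩ := hb.2 t
      exact ⟨t', eN_injective U (I.X q).obj 0 ((key t').trans ht)⟩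
    · have hinj : Function.Injective ((rowAug U I).f q) :=
        (AddCommGrpCat.mono_iff_injective _).1
          (inferInstanceAs (Mono ((HomologicalComplex.eval AddCommGrpCat.{u} up q).map (rowAug U I))))
      exact hb.1 (hinj ((key t).symm.trans ((congrArg _ e).trans (key t'))))
  · rw [quasiIsoAt_iff_exactAt _ _ (HomologicalComplex.ExactAt.of_isZero (hz j hj.ne'))]
    obtain ⟨n, rfl⟩ : ∃ n : ℕ, j = ((n + 1 : ℕ) : ℤ) := ⟨(j - 1).toNat, by omega⟩
    rw [exactAt_iff' _ (n : ℤ) ((n + 1 : ℕ) : ℤ) ((n + 1 + 1 : ℕ) : ℤ) (by simp) (by simp),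
      ShortComplex.ab_exact_iff]
    intro s hs
    haveI := hI q
    have h0 : dCoch U (I.X q).obj (n + 1) ((eN U (I.X q).obj (n + 1)).hom s) = 0 :=
      (eN_d U (I.X q).obj (n + 1) _ rfl s).symm.trans ((congrArg _ hs).trans (map_zero _))
    obtain ⟨t, ht⟩ := Groth.CohBase.cechExact_of_injective (I.X q) U n _ h0
    obtain ⟨t', rfl⟩ := eN_surjective U (I.X q).obj n t
    exact ⟨t', eN_injective U (I.X q).obj (n + 1) ((eN_d U (I.X q).obj n _ rfl t').trans ht)⟩

theorem secRow_zero (p q : ℤ) (hq : q ≠ 0) : IsZero (((secRow I).X p).X q) :=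
  HomologicalComplex.isZero_single_obj_X up 0 _ q hq

/-- For injective sheaves the total Čech complex computes the cohomology of the global sections. -/
theorem nonempty_homology_secCx_iso (hI : ∀ q, Injective (I.X q)) (hcov : iSup U = ⊤) (a : ℤ)
    (ha : ∀ n, n < a → IsZero (I.X n)) (n : ℤ) :
    Nonempty ((secCx I ⊤).homology n ≅ ((dbl U I).total up).homology n) := by
  have hbF : Groth.TotQIso.Bdd (dbl U I).flip 0 a := fun p q h => dbl_bdd U I a ha q p h.symm
  have hbE : Groth.TotQIso.Bdd (secRow I) a 0 := fun p q h => by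
    rcases eq_or_ne q 0 with rfl | hq
    · refine IsZero.of_iso ?_ (HomologicalComplex.singleObjXSelf up 0 _)
      exact Functor.map_isZero (secF (Opens.grothendieckTopology X) ⊤)
        (ha p (h.resolve_right (lt_irrefl _)))
    · exact secRow_zero I p q hq
  haveI := Groth.TotQIso.hasTotal_of_bdd (secRow I) a 0 hbE
  haveI := quasiIso_dblAug_f U I hI hcov
  have hq : QuasiIso (HomologicalComplex₂.total.map
      ((HomologicalComplex₂.flipFunctor AddCommGrpCat.{u} up up).map (dblAug U I)) up) :=
    Groth.TotQIso.quasiIso_total_map (a := 0) _ a (fun p q h => hbE q p h.symm) hbF fun q =>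
      (inferInstance : QuasiIso ((dblAug U I).f q))
  have i₀ : ∀ p, IsIso ((secRow I).ιTotal up p 0 p (add_zero p)) := fun p =>
    Groth.TotQIso.isIso_ιTotal (secRow I) 0 (secRow_zero I) p p (add_zero p)
  let e₀ : secCx I ⊤ ≅ (secRow I).total up := HomologicalComplex.Hom.isoOfComponents
    (fun p => (HomologicalComplex.singleObjXSelf up 0 ((secCx I ⊤).X p)).symm ≪≫
      @asIso _ _ _ _ ((secRow I).ιTotal up p 0 p (add_zero p)) (i₀ p))
    (fun p p' h => by
      simp only [Iso.trans_hom, Iso.symm_hom, asIso_hom, Category.assoc]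
      rw [Groth.TotQIso.ι_total_d (secRow I) 0 (secRow_zero I) p p' p p' h (add_zero p) (add_zero p')]
      erw [HomologicalComplex.single_map_f_self]
      simp only [Category.assoc, Iso.inv_hom_id_assoc])
  exact ⟨HomologicalComplex.homologyMapIso (e₀ ≪≫ ((secRow I).totalFlipIso up).symm) n ≪≫
    @asIso _ _ _ _ (HomologicalComplex.homologyMap (HomologicalComplex₂.total.map
      ((HomologicalComplex₂.flipFunctor AddCommGrpCat.{u} up up).map (dblAug U I)) up) n)
      ((quasiIsoAt_iff_isIso_homologyMap _ n).1 inferInstance) ≪≫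
    HomologicalComplex.homologyMapIso ((dbl U I).totalFlipIso up) n⟩

end Groth.CechHyper
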